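import Mathlib

namespace Cfsg.Agent.Helper13.GS

theorem ncard_biUnion_le_mul {Γ ι : Type*} [Finite Γ] [Finite ι] (s : Set ι) (t : ι → Set Γ)
    (c : ℕ) (h : ∀ i ∈ s, (t i).ncard ≤ c) :
    Set.ncard {w : Γ | ∃ i ∈ s, w ∈ t i} ≤ s.ncard * c := by
  classical
  have := Fintype.ofFinite Γ
  have := Fintype.ofFinite ι
  have hset : {w : Γ | ∃ i ∈ s, w ∈ t i} = ↑(s.toFinset.biUnion (fun i => (t i).toFinset)) := by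
    ext w; simp
  rw [hset, Set.ncard_coe_finset]
  calc _ ≤ s.toFinset.card * c := Finset.card_biUnion_le_card_mul _ _ _ (fun i hi => by
        rw [← Set.ncard_eq_toFinset_card']; exact h i (by simpa using hi))
    _ = s.ncard * c := by rw [Set.ncard_eq_toFinset_card']

theorem ncard_double_union_le {Γ : Type*} [Finite Γ] (𝒜 : Set Γ) (Z : Γ → Set Γ) (C : Γ → Set Γ)
    (c₁ c₂ c₃ : ℕ) (h₁ : 𝒜.ncard ≤ c₁) (h₂ : ∀ f ∈ 𝒜, (Z f).ncard ≤ c₂)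
    (h₃ : ∀ f ∈ 𝒜, ∀ z ∈ Z f, (C z).ncard ≤ c₃) :
    Set.ncard {w : Γ | ∃ f ∈ 𝒜, ∃ z ∈ Z f, w ∈ C z} ≤ c₁ * c₂ * c₃ := by
  have hS : Set.ncard {z : Γ | ∃ f ∈ 𝒜, z ∈ Z f} ≤ c₁ * c₂ :=
    (ncard_biUnion_le_mul 𝒜 Z c₂ h₂).trans (Nat.mul_le_mul_right _ h₁)
  have hset : {w : Γ | ∃ f ∈ 𝒜, ∃ z ∈ Z f, w ∈ C z}
      = {w : Γ | ∃ z ∈ {z : Γ | ∃ f ∈ 𝒜, z ∈ Z f}, w ∈ C z} := by
    ext w
    constructor
    · rintro ⟨f, hf, z, hz, hw⟩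
      exact ⟨z, ⟨f, hf, hz⟩, hw⟩
    · rintro ⟨z, ⟨f, hf, hz⟩, hw⟩
      exact ⟨f, hf, z, hz, hw⟩
  rw [hset]
  refine (ncard_biUnion_le_mul _ C c₃ ?_).trans (Nat.mul_le_mul_right _ hS)
  rintro z ⟨f, hf, hz⟩
  exact h₃ f hf z hz

end Cfsg.Agent.Helper13.GS
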