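import Mathlib

namespace Cfsg.Agent.Helper13.GS

theorem ncard_conj_le {Γ : Type*} [Group Γ] [Finite Γ] (N : Subgroup Γ) (z : Γ) (k : ℕ)
    (h : Nat.card N ≤ k * Nat.card ↥(N ⊓ Subgroup.centralizer {z})) :
    Set.ncard {w : Γ | ∃ g ∈ N, w = g * z * g⁻¹} ≤ k := by
  classical
  set S : Set Γ := {w : Γ | ∃ g ∈ N, w = g * z * g⁻¹} with hS
  set C : Subgroup Γ := N ⊓ Subgroup.centralizer {z} with hC
  have hCpos : 0 < Nat.card C := Nat.card_pos
  -- choose representatives
  have hch : ∀ w : S, ∃ g : Γ, g ∈ N ∧ (w : Γ) = g * z * g⁻¹ := fun w => w.2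
  choose rep hrepN hrep using hch
  have hcomm : ∀ c : C, (c : Γ) * z * (c : Γ)⁻¹ = z := by
    intro c
    have hc : (c : Γ) ∈ Subgroup.centralizer {z} := (Subgroup.mem_inf.mp c.2).2
    have := Subgroup.mem_centralizer_iff.mp hc z (Set.mem_singleton z)
    -- this : z * c = c * z
    rw [← this, mul_assoc, mul_inv_cancel, mul_one]
  let φ : S × C → N := fun p => ⟨rep p.1 * (p.2 : Γ),
    N.mul_mem (hrepN p.1) (Subgroup.mem_inf.mp p.2.2).1⟩
  have hφ : Function.Injective φ := by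
    rintro ⟨w, c⟩ ⟨w', c'⟩ hww
    have h1 : rep w * (c : Γ) = rep w' * (c' : Γ) := congrArg Subtype.val hww
    have hw : (w : Γ) = (w' : Γ) := by
      have e1 : (w : Γ) = (rep w * (c : Γ)) * z * (rep w * (c : Γ))⁻¹ := by
        rw [_root_.mul_inv_rev]
        calc (w : Γ) = rep w * z * (rep w)⁻¹ := hrep w
          _ = rep w * ((c : Γ) * z * (c : Γ)⁻¹) * (rep w)⁻¹ := by rw [hcomm c]
          _ = _ := by group
      have e2 : (w' : Γ) = (rep w' * (c' : Γ)) * z * (rep w' * (c' : Γ))⁻¹ := by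
        rw [_root_.mul_inv_rev]
        calc (w' : Γ) = rep w' * z * (rep w')⁻¹ := hrep w'
          _ = rep w' * ((c' : Γ) * z * (c' : Γ)⁻¹) * (rep w')⁻¹ := by rw [hcomm c']
          _ = _ := by group
      rw [e1, e2, h1]
    have hw' : w = w' := Subtype.ext hw
    subst hw'
    have hc : (c : Γ) = (c' : Γ) := mul_left_cancel h1
    have : c = c' := Subtype.ext hc
    rw [this]
  have hle : Nat.card (S × C) ≤ Nat.card N := Nat.card_le_card_of_injective φ hφ
  rw [Nat.card_prod, Nat.card_coe_set_eq] at hle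
  have : S.ncard * Nat.card C ≤ k * Nat.card C := hle.trans h
  exact Nat.le_of_mul_le_mul_right this hCpos

end Cfsg.Agent.Helper13.GS
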